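import Groth.Agent.Lib.Helper19.ConnBC.Main
import Groth.Agent.Lib.Helper4.GeomConnSep
import Groth.Agent.Lib.Helper15.AlgSpLim36

/-!
# Connected components under field extensions: separably closed base fields and geometrically
connected factors (helper19)
-/

set_option autoImplicit false
set_option linter.style.haveILetI false
universe u
open CategoryTheory CategoryTheory.Limits AlgebraicGeometry MorphismProperty TopologicalSpace
open AlgSp Groth.Agent.Helper15

namespace Groth.Agent.Helper19.ConnBC

section top

variable {A B : Type*} [TopologicalSpace A] [TopologicalSpace B]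

theorem connectedSpace_iff_cc :
    ConnectedSpace A ↔ Nonempty (ConnectedComponents A) ∧ Subsingleton (ConnectedComponents A) := by
  constructor
  · intro h
    exact ⟨⟨(Classical.arbitrary A : A)⟩, inferInstance⟩
  · rintro ⟨⟨c⟩, hs⟩
    obtain ⟨a, rfl⟩ := ConnectedComponents.surjective_coe c
    haveI : Nonempty A := ⟨a⟩
    haveI : PreconnectedSpace A := preconnectedSpace_iff_connectedComponent.2 (fun x =>
      Set.eq_univ_of_forall (fun y => ConnectedComponents.coe_eq_coe'.1 (Subsingleton.elim _ _)))
    exact { toNonempty := inferInstance }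

theorem connectedSpace_iff_of_bijective {f : A → B} (hf : Continuous f)
    (h : Function.Bijective hf.connectedComponentsMap) : ConnectedSpace A ↔ ConnectedSpace B := by
  rw [connectedSpace_iff_cc, connectedSpace_iff_cc]
  let e := Equiv.ofBijective _ h
  exact ⟨fun ⟨h1, h2⟩ => ⟨h1.map e, e.symm.subsingleton⟩, fun ⟨h1, h2⟩ => ⟨h1.map e.symm, e.subsingleton⟩⟩

end top

variable {S : Scheme.{u}}

theorem connectedSpace_pullback_field {K₁ K₂ L : Type u} [Field K₁] [Field K₂] [Field L]
    [IsSepClosed K₁] (f : Spec (CommRingCat.of L) ⟶ Spec (CommRingCat.of K₁))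
    (g : Spec (CommRingCat.of K₂) ⟶ Spec (CommRingCat.of K₁)) : ConnectedSpace ↥(pullback f g) := by
  haveI : GeometricallyConnected f :=
    Groth.Agent.Helper4.GeomConnSep.geometricallyConnected_of_isSepClosed f
  infer_instance

section sep

variable {K₁ K₂ : Type u} [Field K₁] [Field K₂] {str₁ : Spec (CommRingCat.of K₁) ⟶ S}
  {str₂ : Spec (CommRingCat.of K₂) ⟶ S}

theorem connectedSpace_points_of_isSepClosed [IsSepClosed K₁] {L : Type u} [Field L]
    {strL : Spec (CommRingCat.of L) ⟶ S}
    (m : (yon S).obj (Over.mk str₂) ⟶ (yon S).obj (Over.mk str₁))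
    (e : (yon S).obj (Over.mk strL) ⟶ (yon S).obj (Over.mk str₁)) {GE : Sp S}
    {q₁ : GE ⟶ (yon S).obj (Over.mk strL)} {q₂ : GE ⟶ (yon S).obj (Over.mk str₂)}
    (h : IsPullback q₁ q₂ e m) : ConnectedSpace (Points GE) := by
  obtain ⟨mm, rfl⟩ := (yon S).map_surjective m
  obtain ⟨e₀, rfl⟩ := (yon S).map_surjective e
  have hZ : IsPullback ((yon S).map (pullback.fst e₀ mm)) ((yon S).map (pullback.snd e₀ mm))
      ((yon S).map e₀) ((yon S).map mm) := (IsPullback.of_hasPullback e₀ mm).map (yon S)
  let ι := hZ.isoIsPullback _ _ h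
  have hsqL : IsPullback (pullback.fst e₀ mm).left (pullback.snd e₀ mm).left e₀.left mm.left :=
    (IsPullback.of_hasPullback e₀ mm).map (Over.forget S)
  haveI : ConnectedSpace ↥(pullback e₀.left mm.left) := connectedSpace_pullback_field e₀.left mm.left
  haveI : ConnectedSpace ↥(pullback e₀ mm).left :=
    hsqL.isoPullback.hom.homeomorph.connectedSpace_iff.2 inferInstance
  have hsurj : Function.Surjective (Points.ofPt ι.hom) := by
    intro x
    obtain ⟨w, hw⟩ := (Points.schemeEquiv (pullback e₀ mm)).surjective (Points.map ι.inv x)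
    refine ⟨w, ?_⟩
    rw [Points.ofPt_eq_map_ofScheme]
    change Points.map ι.hom (Points.schemeEquiv _ w) = x
    rw [hw, ← Points.map_comp, ι.inv_hom_id, Points.map_id]
  exact hsurj.connectedSpace (Points.continuous_ofPt ι.hom)

/-- **Separably closed base field**: for an algebraic space `F` over a separably closed field `K₁`
and a field extension `K₂`, the projection `F_{K₂} ⟶ F` induces a bijection on connected
components. -/
theorem bijective_connectedComponentsMap_of_isSepClosed [IsSepClosed K₁] {F F' : Sp S}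
    (hF : IsAlgSpace F) {b : F ⟶ (yon S).obj (Over.mk str₁)}
    {m : (yon S).obj (Over.mk str₂) ⟶ (yon S).obj (Over.mk str₁)} {fst : F' ⟶ F}
    {snd : F' ⟶ (yon S).obj (Over.mk str₂)} (sq : IsPullback fst snd b m) :
    Function.Bijective (Continuous.connectedComponentsMap (Points.continuous_map fst)) :=
  bijective_connectedComponentsMap hF (IsAlgSpace.yon_obj _) sq
    (fun _ _ _ e _ _ _ h => connectedSpace_points_of_isSepClosed m e h)

theorem connectedSpace_iff_of_isSepClosed [IsSepClosed K₁] {F F' : Sp S}
    (hF : IsAlgSpace F) {b : F ⟶ (yon S).obj (Over.mk str₁)}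
    {m : (yon S).obj (Over.mk str₂) ⟶ (yon S).obj (Over.mk str₁)} {fst : F' ⟶ F}
    {snd : F' ⟶ (yon S).obj (Over.mk str₂)} (sq : IsPullback fst snd b m) :
    ConnectedSpace (Points F') ↔ ConnectedSpace (Points F) :=
  connectedSpace_iff_of_bijective _ (bijective_connectedComponentsMap_of_isSepClosed hF sq)

end sep

theorem isAlgSpace_prod {X Y : Sp S} (hX : IsAlgSpace X) (hY : IsAlgSpace Y) :
    IsAlgSpace (X ⨯ Y) :=
  isAlgSpace_of_isPullback (IsAlgSpace.yon_obj (Over.mk (𝟙 S))).diag hX hY
    (IsPullback.of_is_product' (prodIsProd X Y) AlgSpLim.isTerminalYonBase)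

end Groth.Agent.Helper19.ConnBC
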