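import Mathlib
import Groth.Prelude
import Groth.Agent.Lib.Helper15.AlgSpTop
import Groth.Agent.Lib.Helper15.AlgSpFibre
import Groth.Agent.Lib.Helper15.CatLemmas

/-!
# Connected components of base changes of algebraic spaces over fields (helper19)

For a pullback square `F' = F ×_{Spec K} G` of algebraic spaces over a field point, the projection
`F' ⟶ F` is open on points, its fibres are images of the base changes `G_L`, and hence it induces a
bijection on connected components as soon as `G` is geometrically connected over `K`.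
-/

set_option autoImplicit false
set_option linter.style.haveILetI false
universe u
open CategoryTheory CategoryTheory.Limits AlgebraicGeometry MorphismProperty TopologicalSpace
open AlgSp Groth.Agent.Helper15

namespace Groth.Agent.Helper19.ConnBC

variable {S : Scheme.{u}}

instance subsingleton_points_field {L : Type u} [Field L] (strL : Spec (CommRingCat.of L) ⟶ S) :
    Subsingleton (Points ((yon S).obj (Over.mk strL))) := by
  haveI : Subsingleton ↥(Over.mk strL).left := by
    change Subsingleton ↥(Spec (CommRingCat.of L))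
    infer_instance
  exact (Points.schemeEquiv (Over.mk strL)).symm.subsingleton

/-- the fibre of a morphism over the point defined by a field point is the image of the points of
the base change to that field point -/
theorem preimage_ofField_eq_range {A B Aη : Sp S} {f : A ⟶ B} {L : Type u} [Field L]
    {strL : Spec (CommRingCat.of L) ⟶ S} {η : (yon S).obj (Over.mk strL) ⟶ B} {p₁ : Aη ⟶ A}
    {p₂ : Aη ⟶ (yon S).obj (Over.mk strL)} (sq : IsPullback p₁ p₂ f η) :
    Points.map f ⁻¹' {ofField η} = Set.range (Points.map p₁) := by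
  have h0 : ofField η = Points.map η (ofField (𝟙 _)) := by rw [map_ofField, Category.id_comp]
  ext z
  constructor
  · intro hz
    have hz' : Points.map f z = ofField η := hz
    obtain ⟨w, hw, -⟩ := exists_point_of_isPullback sq z (ofField (𝟙 _)) (by rw [← h0]; exact hz')
    exact ⟨w, hw⟩
  · rintro ⟨w, rfl⟩
    show Points.map f (Points.map p₁ w) = ofField η
    rw [← Points.map_comp, sq.w, Points.map_comp, h0]
    congr 1
    exact Subsingleton.elim _ _

theorem isSurjectiveMor_comp {A B C : Sp S} (f : A ⟶ B) (g : B ⟶ C) (hf : IsSurjectiveMor f)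
    (hg : IsSurjectiveMor g) : IsSurjectiveMor (f ≫ g) := by
  intro z
  obtain ⟨y, rfl⟩ := hg z
  obtain ⟨x, rfl⟩ := hf y
  exact ⟨x, Points.map_comp f g x⟩

section open_

variable {K : Type u} [Field K] {str : Spec (CommRingCat.of K) ⟶ S} {F G F' : Sp S}
  {b : F ⟶ (yon S).obj (Over.mk str)} {m : G ⟶ (yon S).obj (Over.mk str)} {fst : F' ⟶ F}
  {snd : F' ⟶ G}

/-- the projection from a fibre product over a field point is open on points -/
theorem isOpenMap_fst_of_field (hF : IsAlgSpace F) (hG : IsAlgSpace G)
    (sq : IsPullback fst snd b m) : IsOpenMap (Points.map fst) := by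
  obtain ⟨U, a, hae, has⟩ := hF.atlas
  obtain ⟨V, c, hce, hcs⟩ := hG.atlas
  obtain ⟨u, hu⟩ := (yon S).map_surjective (a ≫ b)
  obtain ⟨v, hv⟩ := (yon S).map_surjective (c ≫ m)
  have hW : IsPullback ((yon S).map (pullback.fst u v)) ((yon S).map (pullback.snd u v))
      ((yon S).map u) ((yon S).map v) := (IsPullback.of_hasPullback u v).map (yon S)
  rw [hu, hv] at hW
  -- the intermediate fibre product
  have hH := IsPullback.of_hasPullback (a ≫ b) m
  set h₁ := pullback.fst (a ≫ b) m
  set h₂ := pullback.snd (a ≫ b) m
  have wα : (h₁ ≫ a) ≫ b = h₂ ≫ m := by rw [Category.assoc]; exact hH.w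
  have hα : IsPullback (sq.lift (h₁ ≫ a) h₂ wα) h₁ fst a := by
    refine IsPullback.of_right ?_ (sq.lift_fst _ _ _) sq.flip
    rw [sq.lift_snd]
    exact hH.flip
  have hαs : IsSurjectiveMor (sq.lift (h₁ ≫ a) h₂ wα) :=
    isSurjectiveMor_of_isPullback hα.flip (isSurjectiveMor_of_repWith_surjective a has)
  have wβ : (yon S).map (pullback.fst u v) ≫ a ≫ b = ((yon S).map (pullback.snd u v) ≫ c) ≫ m := by
    rw [Category.assoc]; exact hW.w
  have hβ : IsPullback (hH.lift ((yon S).map (pullback.fst u v))
      ((yon S).map (pullback.snd u v) ≫ c) wβ) ((yon S).map (pullback.snd u v)) h₂ c := by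
    refine IsPullback.of_right ?_ (hH.lift_snd _ _ _) hH
    rw [hH.lift_fst]
    exact hW
  have hβs : IsSurjectiveMor (hH.lift ((yon S).map (pullback.fst u v))
      ((yon S).map (pullback.snd u v) ≫ c) wβ) :=
    isSurjectiveMor_of_isPullback hβ.flip (isSurjectiveMor_of_repWith_surjective c hcs)
  set ζ := hH.lift ((yon S).map (pullback.fst u v)) ((yon S).map (pullback.snd u v) ≫ c) wβ ≫
    sq.lift (h₁ ≫ a) h₂ wα with hζ
  have hζs : IsSurjectiveMor ζ := isSurjectiveMor_comp _ _ hβs hαs
  have hζfst : ζ ≫ fst = (yon S).map (pullback.fst u v) ≫ a := by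
    rw [hζ, Category.assoc, sq.lift_fst, ← Category.assoc, hH.lift_fst]
  have hsurj : Function.Surjective (Points.ofPt ζ) := by
    intro x
    obtain ⟨p, rfl⟩ := hζs x
    obtain ⟨w, rfl⟩ := (Points.schemeEquiv (pullback u v)).surjective p
    exact ⟨w, Points.ofPt_eq_map_ofScheme ζ w⟩
  have hcomp : ∀ w, Points.map fst (Points.ofPt ζ w) = Points.ofPt a ((pullback.fst u v).left w) := by
    intro w
    rw [Points.map_ofPt, hζfst, ofPt_comp_yon_map]
  -- the scheme projection is open
  have hsqL : IsPullback (pullback.fst u v).left (pullback.snd u v).left u.left v.left :=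
    (IsPullback.of_hasPullback u v).map (Over.forget S)
  have key : ∀ {Z : Scheme.{u}} (g : Z ⟶ Spec (CommRingCat.of K)), UniversallyOpen g :=
    fun g => inferInstance
  haveI : UniversallyOpen v.left := key v.left
  haveI : UniversallyOpen (pullback.fst u v).left :=
    MorphismProperty.of_isPullback (P := @UniversallyOpen) hsqL.flip inferInstance
  have hopen1 : IsOpenMap (pullback.fst u v).left := (pullback.fst u v).left.isOpenMap
  have hopen2 : IsOpenMap (Points.ofPt a) := isOpenMap_ofPt_of_etale a hae
  intro O hO
  have : Points.map fst '' O =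
      Points.ofPt a '' ((pullback.fst u v).left '' (Points.ofPt ζ ⁻¹' O)) := by
    ext x
    constructor
    · rintro ⟨z, hz, rfl⟩
      obtain ⟨w, rfl⟩ := hsurj z
      exact ⟨_, ⟨w, hz, rfl⟩, (hcomp w).symm⟩
    · rintro ⟨_, ⟨w, hw, rfl⟩, rfl⟩
      exact ⟨Points.ofPt ζ w, hw, hcomp w⟩
  rw [this]
  exact hopen2 _ (hopen1 _ (hO.preimage (Points.continuous_ofPt ζ)))

/-- **Connected components and base change over a field point.** If every base change of `G` to a
field over the field point has connected space of points, the projection `F ×_K G ⟶ F` induces a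
bijection on connected components. -/
theorem bijective_connectedComponentsMap (hF : IsAlgSpace F) (hG : IsAlgSpace G)
    (sq : IsPullback fst snd b m)
    (hconn : ∀ (L : Type u) [Field L] (strL : Spec (CommRingCat.of L) ⟶ S)
      (e : (yon S).obj (Over.mk strL) ⟶ (yon S).obj (Over.mk str)) (GE : Sp S)
      (q₁ : GE ⟶ (yon S).obj (Over.mk strL)) (q₂ : GE ⟶ G), IsPullback q₁ q₂ e m →
        ConnectedSpace (Points GE)) :
    Function.Bijective (Continuous.connectedComponentsMap (Points.continuous_map fst)) := by
  have hfib : ∀ x : Points F, IsConnected (Points.map fst ⁻¹' {x}) := by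
    intro x
    obtain ⟨L, _, strL, η, rfl⟩ := exists_ofField x
    have hGE := IsPullback.of_hasPullback (η ≫ b) m
    set q₁ := pullback.fst (η ≫ b) m
    set q₂ := pullback.snd (η ≫ b) m
    have w : (q₁ ≫ η) ≫ b = q₂ ≫ m := by rw [Category.assoc]; exact hGE.w
    have hsq : IsPullback (sq.lift (q₁ ≫ η) q₂ w) q₁ fst η := by
      refine IsPullback.of_right ?_ (sq.lift_fst _ _ _) sq.flip
      rw [sq.lift_snd]
      exact hGE.flip
    rw [preimage_ofField_eq_range hsq]
    haveI : ConnectedSpace (Points (pullback (η ≫ b) m)) := hconn L strL (η ≫ b) _ q₁ q₂ hGE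
    exact isConnected_range (Points.continuous_map _)
  have hsurj : Function.Surjective (Points.map fst) := by
    intro x
    obtain ⟨z, hz⟩ := (hfib x).nonempty
    exact ⟨z, hz⟩
  have hq : Topology.IsCoinducing (Points.map fst) :=
    ((isOpenMap_fst_of_field hF hG sq).isQuotientMap (Points.continuous_map fst) hsurj).isCoinducing
  exact hq.connectedComponentsMap_bijective hfib

end open_

end Groth.Agent.Helper19.ConnBC
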